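import Mathlib
import Cfsg.Agent.Helper58.Marggraf
import Cfsg.Agent.Helper60.Marg.Defs

/-!
# Piece (M1) of helper60's S3620 farm (Marggraf): two Jordan sets meeting in one point give a
3-cycle (the commutator of two elements supported in them).
-/

set_option autoImplicit false

namespace Cfsg.Agent.Helper73.Marg

open Cfsg.Agent.Helper60.Marg Cfsg.Agent.Helper58 MulAction

variable {G : Type*} [Group G] {Ω : Type*} [MulAction G Ω]

/-- an element fixing the complement of `Λ` pointwise maps `Λ` into itself. -/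
theorem smul_mem_of_fix {Λ : Set Ω} {g : G} (hg : ∀ z ∉ Λ, g • z = z) {z : Ω} (hz : z ∈ Λ) :
    g • z ∈ Λ := by
  by_contra h
  have h1 : g • (g • z) = g • z := hg _ h
  have h2 : g • z = z := smul_left_cancel g h1
  exact h (by rw [h2]; exact hz)

/-- the inverse of an element fixing the complement of `Λ` pointwise fixes it pointwise too. -/
theorem inv_fix {Λ : Set Ω} {g : G} (hg : ∀ z ∉ Λ, g • z = z) : ∀ z ∉ Λ, g⁻¹ • z = z := by
  intro z hz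
  rw [inv_smul_eq_iff, hg z hz]

/-- (M1) two Jordan sets meeting in exactly one point give a 3-cycle (commutator) -/
theorem small3_of_inter_singleton {Λ₁ Λ₂ : Set Ω} (h₁ : IsJ G Λ₁) (h₂ : IsJ G Λ₂) (α β γ : Ω)
    (hα : Λ₁ ∩ Λ₂ = {α}) (hβ : β ∈ Λ₁) (hβα : β ≠ α) (hγ : γ ∈ Λ₂) (hγα : γ ≠ α) :
    ∃ c : G, Small3 Ω c := by
  have hα12 : α ∈ Λ₁ ∩ Λ₂ := by rw [hα]; rfl
  have hα1 : α ∈ Λ₁ := hα12.1
  have hα2 : α ∈ Λ₂ := hα12.2
  -- a point of both sets is `α`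
  have honly : ∀ z, z ∈ Λ₁ → z ∈ Λ₂ → z = α := by
    intro z h1 h2
    have : z ∈ Λ₁ ∩ Λ₂ := ⟨h1, h2⟩
    rw [hα] at this
    exact this
  obtain ⟨g₁, hg₁, hg₁α⟩ := h₁ α hα1 β hβ
  obtain ⟨g₂, hg₂, hg₂α⟩ := h₂ α hα2 γ hγ
  have hg₁' := inv_fix hg₁
  have hg₂' := inv_fix hg₂
  -- the three points
  set b : Ω := g₁⁻¹ • α with hb
  set d : Ω := g₂⁻¹ • α with hd
  have hb1 : b ∈ Λ₁ := smul_mem_of_fix hg₁' hα1
  have hd2 : d ∈ Λ₂ := smul_mem_of_fix hg₂' hα2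
  have hg₁b : g₁ • b = α := by rw [hb, smul_inv_smul]
  have hg₂d : g₂ • d = α := by rw [hd, smul_inv_smul]
  have hbα : b ≠ α := by
    intro h
    rw [h] at hg₁b
    exact hβα (hg₁α.symm.trans hg₁b)
  have hdα : d ≠ α := by
    intro h
    rw [h] at hg₂d
    exact hγα (hg₂α.symm.trans hg₂d)
  have hb2 : b ∉ Λ₂ := fun h => hbα (honly b hb1 h)
  have hd1 : d ∉ Λ₁ := fun h => hdα (honly d h hd2)
  have hβ2 : β ∉ Λ₂ := fun h => hβα (honly β hβ h)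
  have hγ1 : γ ∉ Λ₁ := fun h => hγα (honly γ h hγ)
  have hbd : b ≠ d := fun h => hb2 (h ▸ hd2)
  refine ⟨g₁⁻¹ * g₂⁻¹ * g₁ * g₂, α, b, d, hbα.symm, hbd, hdα.symm, ?_, ?_, ?_, ?_⟩
  · -- `α ↦ b`
    rw [mul_smul, mul_smul, mul_smul, hg₂α, hg₁ γ hγ1, ← hg₂α, inv_smul_smul]
  · -- `b ↦ d`
    rw [mul_smul, mul_smul, mul_smul, hg₂ b hb2, hg₁b, ← hd, hg₁' d hd1]
  · -- `d ↦ α`
    rw [mul_smul, mul_smul, mul_smul, hg₂d, hg₁α, hg₂' β hβ2, ← hg₁α, inv_smul_smul]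
  · -- all other points are fixed
    intro z hzα hzb hzd
    rw [mul_smul, mul_smul, mul_smul]
    by_cases hz2 : z ∈ Λ₂
    · have hz1 : z ∉ Λ₁ := fun h => hzα (honly z h hz2)
      have hgz2 : g₂ • z ∈ Λ₂ := smul_mem_of_fix hg₂ hz2
      have hgzα : g₂ • z ≠ α := by
        intro h
        apply hzd
        rw [hd, ← h, inv_smul_smul]
      have hgz1 : g₂ • z ∉ Λ₁ := fun h => hgzα (honly _ h hgz2)
      rw [hg₁ _ hgz1, inv_smul_smul, hg₁' z hz1]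
    · rw [hg₂ z hz2]
      by_cases hz1 : z ∈ Λ₁
      · have hgz1 : g₁ • z ∈ Λ₁ := smul_mem_of_fix hg₁ hz1
        have hgzα : g₁ • z ≠ α := by
          intro h
          apply hzb
          rw [hb, ← h, inv_smul_smul]
        have hgz2 : g₁ • z ∉ Λ₂ := fun h => hgzα (honly _ hgz1 h)
        rw [hg₂' _ hgz2, inv_smul_smul]
      · rw [hg₁ z hz1, hg₂' z hz2, hg₁' z hz1]

end Cfsg.Agent.Helper73.Marg
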