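import Mathlib
import Cfsg.Agent.Helper58.Marggraf
import Cfsg.Agent.Helper60.Marg.Defs
import Cfsg.Agent.Helper73.Marg.M1

/-!
# Piece (M2) of helper60's S3620 farm (Marggraf): a Jordan set with 2 or 3 points gives a
transposition or a 3-cycle.
-/

set_option autoImplicit false

namespace Cfsg.Agent.Helper73.Marg

open Cfsg.Agent.Helper60.Marg Cfsg.Agent.Helper58 MulAction

variable {G : Type*} [Group G] {Ω : Type*} [MulAction G Ω]

/-- (M2) Jordan sets with 2 or 3 points -/
theorem small_of_ncard_le_three {Γ : Set Ω} (hJ : IsJ G Γ) (h : Γ.ncard = 2 ∨ Γ.ncard = 3) :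
    ∃ c : G, Small2 Ω c ∨ Small3 Ω c := by
  rcases h with h | h
  · obtain ⟨a, b, hab, rfl⟩ := Set.ncard_eq_two.mp h
    have ha : a ∈ ({a, b} : Set Ω) := by simp
    have hb : b ∈ ({a, b} : Set Ω) := by simp
    obtain ⟨g, hg, hga⟩ := hJ a ha b hb
    have hgb : g • b ∈ ({a, b} : Set Ω) := smul_mem_of_fix hg hb
    have hgbb : g • b ≠ b := by
      intro hh
      exact hab (smul_left_cancel g (hga.trans hh.symm))
    have hgba : g • b = a := by
      rcases hgb with hh | hh
      · exact hh
      · exact absurd hh hgbb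
    refine ⟨g, Or.inl ⟨a, b, hab, hga, hgba, ?_⟩⟩
    intro z hza hzb
    apply hg
    intro hz
    rcases hz with hz | hz
    · exact hza hz
    · exact hzb hz
  · obtain ⟨a, b, c, hab, hac, hbc, rfl⟩ := Set.ncard_eq_three.mp h
    have ha : a ∈ ({a, b, c} : Set Ω) := by simp
    have hb : b ∈ ({a, b, c} : Set Ω) := by simp
    have hc : c ∈ ({a, b, c} : Set Ω) := by simp
    obtain ⟨g, hg, hga⟩ := hJ a ha b hb
    have hgb : g • b ∈ ({a, b, c} : Set Ω) := smul_mem_of_fix hg hb
    have hgc : g • c ∈ ({a, b, c} : Set Ω) := smul_mem_of_fix hg hc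
    have hgbb : g • b ≠ b := by
      intro hh
      exact hab (smul_left_cancel g (hga.trans hh.symm))
    have hgcb : g • c ≠ b := by
      intro hh
      exact hac (smul_left_cancel g (hga.trans hh.symm))
    have hout : ∀ z : Ω, z ≠ a → z ≠ b → z ≠ c → g • z = z := by
      intro z hza hzb hzc
      apply hg
      intro hz
      rcases hz with hz | hz | hz
      · exact hza hz
      · exact hzb hz
      · exact hzc hz
    rcases hgb with hh | hh | hh
    · -- `g • b = a`: a transposition
      have hgcc : g • c = c := by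
        rcases hgc with h1 | h1 | h1
        · exact absurd (smul_left_cancel g (h1.trans hh.symm)) (Ne.symm hbc)
        · exact absurd h1 hgcb
        · exact h1
      refine ⟨g, Or.inl ⟨a, b, hab, hga, hh, ?_⟩⟩
      intro z hza hzb
      by_cases hzc : z = c
      · rw [hzc, hgcc]
      · exact hout z hza hzb hzc
    · exact absurd hh hgbb
    · -- `g • b = c`: a 3-cycle
      have hgca : g • c = a := by
        rcases hgc with h1 | h1 | h1
        · exact h1
        · exact absurd h1 hgcb
        · exact absurd (smul_left_cancel g (h1.trans hh.symm)) (Ne.symm hbc)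
      exact ⟨g, Or.inr ⟨a, b, c, hab, hbc, hac, hga, hh, hgca, hout⟩⟩

end Cfsg.Agent.Helper73.Marg
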