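import Mathlib
import Cfsg.Agent.Helper58.Marggraf
import Cfsg.Agent.Helper60.Marg.Defs
import Cfsg.Agent.Helper47.Marg.MT

/-!
# Piece (B2) of helper60's S3620 farm (Marggraf): the translates of `Γ` avoiding a `(t-1)`-set `A`
cover the complement of `A`.
-/

set_option autoImplicit false

namespace Cfsg.Agent.Helper73.Marg

open Cfsg.Agent.Helper60.Marg Cfsg.Agent.Helper58 MulAction

variable {G : Type*} [Group G] {Ω : Type*} [MulAction G Ω]

variable [Fintype Ω] [DecidableEq Ω]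

/-- (B2) -/
theorem translates_cover (Γ : Set Ω) (m t : ℕ) (hm : Γ.ncard = m) (hm1 : 1 ≤ m)
    (hn : Fintype.card Ω = 2 * m + 1) (htm : t < m)
    (ht : IsMultiplyPretransitive G Ω t) (A : Finset Ω) (hA : A.card + 1 = t) (x : Ω)
    (hx : x ∉ A) : ∃ T ∈ TA (translates G Γ) A, x ∈ T := by
  -- `Γ` as a finset
  obtain ⟨Γf, hΓfmem⟩ : ∃ Γf : Finset Ω, ∀ z, z ∈ Γf ↔ z ∈ Γ := by
    have : DecidablePred (fun z : Ω => z ∈ Γ) := Classical.decPred _
    exact ⟨Finset.univ.filter (fun z => z ∈ Γ), fun z => by simp⟩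
  have hΓfΓ : (Γf : Set Ω) = Γ := by
    ext z
    exact hΓfmem z
  have hΓfcard : Γf.card = m := by
    rw [← Set.ncard_coe_finset, hΓfΓ, hm]
  have hCcard : (Γfᶜ : Finset Ω).card = m + 1 := by
    rw [Finset.card_compl, hn, hΓfcard]
    omega
  -- a point of `Γ`
  obtain ⟨γ0, hγ0⟩ : ∃ γ0, γ0 ∈ Γf := by
    apply Finset.card_pos.mp
    omega
  have hγ0Γ : γ0 ∈ Γ := (hΓfmem γ0).mp hγ0
  -- an embedding of `A` into the complement of `Γ`
  obtain ⟨e⟩ : Nonempty ({a // a ∈ A} ↪ {c // c ∈ (Γfᶜ : Finset Ω)}) := by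
    apply Function.Embedding.nonempty_of_card_le
    rw [Fintype.card_coe, Fintype.card_coe, hCcard]
    omega
  have he : ∀ (a : Ω) (h : a ∈ A), ((e ⟨a, h⟩ : {c // c ∈ (Γfᶜ : Finset Ω)}) : Ω) ∉ Γ := by
    intro a h hmem
    have h1 := (e ⟨a, h⟩).2
    rw [Finset.mem_compl, hΓfmem] at h1
    exact h1 hmem
  set f : Ω → Ω := fun z => if h : z ∈ A then ((e ⟨z, h⟩ : {c // c ∈ (Γfᶜ : Finset Ω)}) : Ω) else γ0
    with hf
  have hfA : ∀ (a : Ω) (h : a ∈ A), f a = ((e ⟨a, h⟩ : {c // c ∈ (Γfᶜ : Finset Ω)}) : Ω) := by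
    intro a h
    simp only [hf, dif_pos h]
  have hfx : ∀ z, z ∉ A → f z = γ0 := by
    intro z h
    simp only [hf, dif_neg h]
  have hinj : Set.InjOn f ((insert x A : Finset Ω) : Set Ω) := by
    intro z hz z' hz' hzz'
    rw [Finset.mem_coe, Finset.mem_insert] at hz hz'
    by_cases h1 : z ∈ A
    · by_cases h2 : z' ∈ A
      · rw [hfA z h1, hfA z' h2] at hzz'
        have := e.injective (Subtype.ext hzz')
        exact congrArg Subtype.val this
      · exfalso
        rw [hfA z h1, hfx z' h2] at hzz'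
        exact he z h1 (hzz' ▸ hγ0Γ)
    · by_cases h2 : z' ∈ A
      · exfalso
        rw [hfx z h1, hfA z' h2] at hzz'
        exact he z' h2 (hzz' ▸ hγ0Γ)
      · rcases hz with hz | hz
        · rcases hz' with hz' | hz'
          · rw [hz, hz']
          · exact absurd hz' h2
        · exact absurd hz h1
  have htc : t ≤ Nat.card Ω := by
    rw [Nat.card_eq_fintype_card, hn]
    omega
  have hscard : (insert x A : Finset Ω).card ≤ t := by
    rw [Finset.card_insert_of_notMem hx]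
    omega
  obtain ⟨g, hg⟩ := Cfsg.Agent.Helper47.Marg.exists_smul_eq_of_injOn t ht htc (insert x A) hscard f hinj
  have hdec : DecidablePred (fun z : Ω => g • z ∈ Γ) := Classical.decPred _
  refine ⟨Finset.univ.filter (fun z => g • z ∈ Γ), ?_, ?_⟩
  · rw [TA, Finset.mem_filter]
    refine ⟨?_, ?_⟩
    · rw [mem_translates]
      refine ⟨g, ?_⟩
      ext z
      simp
    · rw [Finset.disjoint_left]
      intro z hz hzA
      rw [Finset.mem_filter] at hz
      have h1 : g • z = f z := hg z (Finset.mem_insert_of_mem hzA)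
      rw [h1, hfA z hzA] at hz
      exact he z hzA hz.2
  · rw [Finset.mem_filter]
    refine ⟨Finset.mem_univ _, ?_⟩
    rw [hg x (Finset.mem_insert_self x A), hfx x hx]
    exact hγ0Γ

end Cfsg.Agent.Helper73.Marg
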